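import Cfsg.Agent.Lib.SpO.HN.XDefs

set_option autoImplicit false
set_option maxRecDepth 100000
set_option Elab.async false
set_option linter.unusedSectionVars false

namespace Cfsg.Agent.SpO.HN
open Cfsg.Agent.CG Cfsg.Agent.SpO

theorem c0 : chkDef 16 (appT tabs CG.HSx.t24 0xffff) 24 (slp 24) 0 1408 = true := by decide +kernel
theorem c1 : chkDef 16 (appT tabs CG.HSx.t24 0xffff) 25 (slp 25) 0 1408 = true := by decide +kernel
theorem c2 : chkDef 16 (appT tabs CG.HSx.t24 0xffff) 26 (slp 26) 0 1408 = true := by decide +kernel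
theorem c3 : chkDef 16 (appT tabs CG.HSx.t24 0xffff) 27 (slp 27) 0 1408 = true := by decide +kernel
theorem c4 : chkDef 16 (appT tabs CG.HSx.t24 0xffff) 28 (slp 28) 0 1408 = true := by decide +kernel
theorem c5 : chkDef 16 (appT tabs CG.HSx.t24 0xffff) 29 (slp 29) 0 1408 = true := by decide +kernel
theorem c6 : chkDef 16 (appT tabs CG.HSx.t24 0xffff) 30 (slp 30) 0 1408 = true := by decide +kernel
theorem c7 : chkDef 16 (appT tabs CG.HSx.t24 0xffff) 31 (slp 31) 0 1408 = true := by decide +kernel
theorem c8 : chkDef 16 (appT tabs CG.HSx.t24 0xffff) 32 (slp 32) 0 1408 = true := by decide +kernel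
theorem c9 : chkDef 16 (appT tabs CG.HSx.t24 0xffff) 33 (slp 33) 0 1408 = true := by decide +kernel
theorem c10 : chkDef 16 (appT tabs CG.HSx.t24 0xffff) 34 (slp 34) 0 1408 = true := by decide +kernel
theorem c11 : chkDef 16 (appT tabs CG.HSx.t24 0xffff) 35 (slp 35) 0 1408 = true := by decide +kernel
theorem c12 : chkDef 16 (appT tabs CG.HSx.t24 0xffff) 36 (slp 36) 0 1408 = true := by decide +kernel
theorem c13 : chkDef 16 (appT tabs CG.HSx.t24 0xffff) 37 (slp 37) 0 1408 = true := by decide +kernel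
theorem c14 : chkDef 16 (appT tabs CG.HSx.t24 0xffff) 38 (slp 38) 0 1408 = true := by decide +kernel
theorem c15 : chkDef 16 (appT tabs CG.HSx.t24 0xffff) 39 (slp 39) 0 1408 = true := by decide +kernel
theorem c16 : chkDef 16 (appT tabs CG.HSx.t24 0xffff) 40 (slp 40) 0 1408 = true := by decide +kernel
theorem c17 : chkDef 16 (appT tabs CG.HSx.t24 0xffff) 41 (slp 41) 0 1408 = true := by decide +kernel
theorem c18 : chkDef 16 (appT tabs CG.HSx.t24 0xffff) 42 (slp 42) 0 1408 = true := by decide +kernel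
theorem c19 : chkDef 16 (appT tabs CG.HSx.t24 0xffff) 43 (slp 43) 0 1408 = true := by decide +kernel
theorem c20 : chkDef 16 (appT tabs CG.HSx.t24 0xffff) 44 (slp 44) 0 1408 = true := by decide +kernel
theorem c21 : chkDef 16 (appT tabs CG.HSx.t24 0xffff) 45 (slp 45) 0 1408 = true := by decide +kernel
theorem c22 : chkDef 16 (appT tabs CG.HSx.t24 0xffff) 46 (slp 46) 0 1408 = true := by decide +kernel
theorem c23 : chkDef 16 (appT tabs CG.HSx.t24 0xffff) 47 (slp 47) 0 1408 = true := by decide +kernel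
theorem c24 : chkDef 16 (appT tabs CG.HSx.t24 0xffff) 48 (slp 48) 0 1408 = true := by decide +kernel
theorem c25 : chkDef 16 (appT tabs CG.HSx.t24 0xffff) 49 (slp 49) 0 1408 = true := by decide +kernel
theorem c26 : chkDef 16 (appT tabs CG.HSx.t24 0xffff) 50 (slp 50) 0 1408 = true := by decide +kernel
theorem c27 : chkDef 16 (appT tabs CG.HSx.t24 0xffff) 51 (slp 51) 0 1408 = true := by decide +kernel
theorem c28 : chkDef 16 (appT tabs CG.HSx.t24 0xffff) 52 (slp 52) 0 1408 = true := by decide +kernel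
theorem c29 : chkDef 16 (appT tabs CG.HSx.t24 0xffff) 53 (slp 53) 0 1408 = true := by decide +kernel
theorem c30 : chkDef 16 (appT tabs CG.HSx.t24 0xffff) 54 (slp 54) 0 1408 = true := by decide +kernel
theorem c31 : chkDef 16 (appT tabs CG.HSx.t24 0xffff) 55 (slp 55) 0 1408 = true := by decide +kernel
theorem c32 : chkDef 16 (appT tabs CG.HSx.t24 0xffff) 56 (slp 56) 0 1408 = true := by decide +kernel
theorem c33 : chkDef 16 (appT tabs CG.HSx.t24 0xffff) 57 (slp 57) 0 1408 = true := by decide +kernel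
theorem c34 : chkDef 16 (appT tabs CG.HSx.t24 0xffff) 58 (slp 58) 0 1408 = true := by decide +kernel
theorem c35 : chkDef 16 (appT tabs CG.HSx.t24 0xffff) 59 (slp 59) 0 1408 = true := by decide +kernel
theorem c36 : chkDef 16 (appT tabs CG.HSx.t24 0xffff) 60 (slp 60) 0 1408 = true := by decide +kernel
theorem c37 : chkDef 16 (appT tabs CG.HSx.t24 0xffff) 61 (slp 61) 0 1408 = true := by decide +kernel
theorem c38 : chkDef 16 (appT tabs CG.HSx.t24 0xffff) 62 (slp 62) 0 1408 = true := by decide +kernel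
theorem c39 : chkDef 16 (appT tabs CG.HSx.t24 0xffff) 63 (slp 63) 0 1408 = true := by decide +kernel
theorem c40 : chkDef 16 (appT tabs CG.HSx.t24 0xffff) 64 (slp 64) 0 1408 = true := by decide +kernel
theorem c41 : chkDef 16 (appT tabs CG.HSx.t24 0xffff) 65 (slp 65) 0 1408 = true := by decide +kernel
theorem c42 : chkDef 16 (appT tabs CG.HSx.t24 0xffff) 66 (slp 66) 0 1408 = true := by decide +kernel
theorem c43 : chkDef 16 (appT tabs CG.HSx.t24 0xffff) 67 (slp 67) 0 1408 = true := by decide +kernel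
theorem c44 : chkDef 16 (appT tabs CG.HSx.t24 0xffff) 68 (slp 68) 0 1408 = true := by decide +kernel
theorem c45 : chkDef 16 (appT tabs CG.HSx.t24 0xffff) 69 (slp 69) 0 1408 = true := by decide +kernel
theorem c46 : chkDef 16 (appT tabs CG.HSx.t24 0xffff) 70 (slp 70) 0 1408 = true := by decide +kernel
theorem c47 : chkDef 16 (appT tabs CG.HSx.t24 0xffff) 71 (slp 71) 0 1408 = true := by decide +kernel
theorem c48 : chkDef 16 (appT tabs CG.HSx.t24 0xffff) 72 (slp 72) 0 1408 = true := by decide +kernel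
theorem c49 : chkDef 16 (appT tabs CG.HSx.t24 0xffff) 73 (slp 73) 0 1408 = true := by decide +kernel
theorem c50 : chkDef 16 (appT tabs CG.HSx.t24 0xffff) 74 (slp 74) 0 1408 = true := by decide +kernel
theorem c51 : chkDef 16 (appT tabs CG.HSx.t24 0xffff) 75 (slp 75) 0 1408 = true := by decide +kernel
theorem c52 : chkDef 16 (appT tabs CG.HSx.t24 0xffff) 76 (slp 76) 0 1408 = true := by decide +kernel
theorem c53 : chkDef 16 (appT tabs CG.HSx.t24 0xffff) 77 (slp 77) 0 1408 = true := by decide +kernel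
theorem c54 : chkDef 16 (appT tabs CG.HSx.t24 0xffff) 78 (slp 78) 0 1408 = true := by decide +kernel
theorem c55 : chkDef 16 (appT tabs CG.HSx.t24 0xffff) 79 (slp 79) 0 1408 = true := by decide +kernel
theorem c56 : chkDef 16 (appT tabs CG.HSx.t24 0xffff) 80 (slp 80) 0 1408 = true := by decide +kernel
theorem c57 : chkDef 16 (appT tabs CG.HSx.t24 0xffff) 81 (slp 81) 0 1408 = true := by decide +kernel
theorem c58 : chkDef 16 (appT tabs CG.HSx.t24 0xffff) 82 (slp 82) 0 1408 = true := by decide +kernel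
theorem c59 : chkDef 16 (appT tabs CG.HSx.t24 0xffff) 83 (slp 83) 0 1408 = true := by decide +kernel
theorem c60 : chkDef 16 (appT tabs CG.HSx.t24 0xffff) 84 (slp 84) 0 1408 = true := by decide +kernel
theorem c61 : chkDef 16 (appT tabs CG.HSx.t24 0xffff) 85 (slp 85) 0 1408 = true := by decide +kernel
theorem c62 : chkDef 16 (appT tabs CG.HSx.t24 0xffff) 86 (slp 86) 0 1408 = true := by decide +kernel
theorem c63 : chkDef 16 (appT tabs CG.HSx.t24 0xffff) 87 (slp 87) 0 1408 = true := by decide +kernel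
theorem c64 : chkDef 16 (appT tabs CG.HSx.t24 0xffff) 88 (slp 88) 0 1408 = true := by decide +kernel
theorem c65 : chkDef 16 (appT tabs CG.HSx.t24 0xffff) 89 (slp 89) 0 1408 = true := by decide +kernel
theorem c66 : chkDef 16 (appT tabs CG.HSx.t24 0xffff) 90 (slp 90) 0 1408 = true := by decide +kernel
theorem c67 : chkDef 16 (appT tabs CG.HSx.t24 0xffff) 91 (slp 91) 0 1408 = true := by decide +kernel
theorem c68 : chkDef 16 (appT tabs CG.HSx.t24 0xffff) 92 (slp 92) 0 1408 = true := by decide +kernel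
theorem c69 : chkDef 16 (appT tabs CG.HSx.t24 0xffff) 93 (slp 93) 0 1408 = true := by decide +kernel
theorem c70 : chkDef 16 (appT tabs CG.HSx.t24 0xffff) 94 (false, []) 0 1408 = true := by decide +kernel
theorem c71 : mc0.chk (appT tabs CG.HSx.t24 0xffff) 1 1407 = true := by decide +kernel
theorem c72 : mc1.chk (appT tabs CG.HSx.t24 0xffff) 1 349 = true := by decide +kernel
theorem c73 : mc2.chk (appT tabs CG.HSx.t24 0xffff) 1 5 = true := by decide +kernel
theorem c74 : mc3.chk (appT tabs CG.HSx.t24 0xffff) 1 5 = true := by decide +kernel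
theorem c75 : mc4.chk (appT tabs CG.HSx.t24 0xffff) 1 4 = true := by decide +kernel
theorem c76 : mc5.chk (appT tabs CG.HSx.t24 0xffff) 1 1 = true := by decide +kernel
theorem c77 : okcb 1408 16 (bases mc) = true := by decide +kernel
theorem c78 : headAll (appT tabs CG.HSx.t24 0xffff) mc [] = true := by decide +kernel
theorem c79 : md0.chk (appT tabs CG.HSx.t24 0xffff) 1 1407 = true := by decide +kernel
theorem c80 : md1.chk (appT tabs CG.HSx.t24 0xffff) 1 349 = true := by decide +kernel
theorem c81 : md2.chk (appT tabs CG.HSx.t24 0xffff) 1 5 = true := by decide +kernel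
theorem c82 : md3.chk (appT tabs CG.HSx.t24 0xffff) 1 29 = true := by decide +kernel
theorem c83 : md4.chk (appT tabs CG.HSx.t24 0xffff) 1 1 = true := by decide +kernel
theorem c84 : okcb 1408 16 (bases md) = true := by decide +kernel
theorem c85 : headAll (appT tabs CG.HSx.t24 0xffff) md [] = true := by decide +kernel
theorem c86 : cc0.chk (appT tabs CG.HSx.t24 0xffff) 1 671 = true := by decide +kernel
theorem c87 : cc1.chk (appT tabs CG.HSx.t24 0xffff) 1 59 = true := by decide +kernel
theorem c88 : cc2.chk (appT tabs CG.HSx.t24 0xffff) 1 1 = true := by decide +kernel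
theorem c89 : okcb 1408 16 (bases cc) = true := by decide +kernel
theorem c90 : headAll (appT tabs CG.HSx.t24 0xffff) cc [] = true := by decide +kernel
theorem c91 : trChk (appT tabs CG.HSx.t24 0xffff) mc0 [mc1, mc2, mc3, mc4, mc5] mcB (diagQ pQ) (diagQ pR) pF 0 1408 = true := by decide +kernel
theorem c92 : classChk' (appT tabs CG.HSx.t24 0xffff) bs 31 2 58 [6,7,33] pS pF pU [0,0] = true := by decide +kernel
theorem c93 : powChk (appT tabs CG.HSx.t24 0xffff) bs 29 11 aK nK = true := by decide +kernel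
theorem c94 : en.chk (appT tabs CG.HSx.t24 0xffff) tst 0 2200 0 6246567519269692593 = true := by decide +kernel
theorem c95 : commAll (appT tabs CG.HSx.t24 0xffff) bs 31 cc = true := by decide +kernel
theorem c96 : relChk (appT tabs CG.HSx.t24 0xffff) bs 29 31 rT = true := by decide +kernel
theorem c97 : trChk (appT tabs CG.HSx.t24 0xffff) mc0 [mc1, mc2, mc3, mc4, mc5] mcB (diagQ uQ) (diagQ uR) uF 0 1408 = true := by decide +kernel
theorem c98 : trChk (appT tabs CG.HSx.t24 0xffff) md0 [md1, md2, md3, md4] mdB (diagQ eQ) (diagQ eR) eF 0 1408 = true := by decide +kernel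
theorem c99 : treeAll (appT tabs CG.HSx.t24 0xffff) foS foX foF 16 0 1408 = true := by decide +kernel
theorem c100 : fixAll (appT tabs CG.HSx.t24 0xffff) fxS fxX 16 0 1408 = true := by decide +kernel

end Cfsg.Agent.SpO.HN
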