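import Cfsg.Agent.Lib.SpO.HN.MD
import Cfsg.Agent.Lib.SpO.BC

set_option autoImplicit false
set_option maxRecDepth 100000
set_option Elab.async false

namespace Cfsg.Agent.SpO.HN.M
open Cfsg.Agent.CG Cfsg.Agent.Id

noncomputable def steps : List (ℕ × ℕ) := [(13, 8), (431, 13), (27, 9)]
noncomputable abbrev mw : List ℕ → List ℕ → List ℕ := mapw 20 19 133 steps tabs
noncomputable abbrev bas : List ℕ := basp (2 ^ 20) 1 133
noncomputable def I : List ℕ := [1, 0, 3, 2, 4, 6, 5]
noncomputable abbrev one (v : List ℕ) : Bool := oneB mw bas v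
noncomputable def img (a : ℕ) : List ℕ := nth [[0], [1], [2], [3], [4, 0, 0], [5, 5], [6, 6]] [] a
noncomputable def ui (a : ℕ) : List ℕ := nth [[2]] [1, 2, 0] a
noncomputable abbrev v0 : ℕ := nth O 0 0
noncomputable def lvl (q : List ℕ × List ℕ × ℕ × ℕ) : Bool :=
  band (eqL q.2.1 (app2 (ivw (nth I 7) q.1) (0 :: 0 :: q.1))) (band (neB mw v0 (app2 q.1 [0, 0]) (0 :: 0 :: q.1))
    (Nat.beq (cntB mw (2 ^ 20) 19 133 O q.2.1 q.2.2.1) q.2.2.2))
noncomputable def cand (u m : List ℕ) : List ℕ := app2 u (6 :: app2 (ivw (nth I 7) u) m)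
noncomputable def candOK (v : List ℕ) : Bool :=
  bor (neB mw v0 (powL 3 (4 :: v)) []) (bor (neB mw v0 (powL 5 v) []) (bor (eqB mw bas v [5]) (eqB mw bas v [0, 0, 5, 1, 1])))

theorem k0 : tabsOK (2 ^ 20) 19 133 tabs = true := by decide +kernel
theorem ks : redOK 20 19 133 steps = true := by decide +kernel
theorem k1 : invB mw bas I 7 = true := by decide +kernel
theorem k2 : allL one [[0,1],[2,3],[4,4],[2,2,2,2,2,2],[0,0,2,0,0,3],[1,3,0,2,1,3,0,2,1,3,0,2]] = true := by decide +kernel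
theorem k3 : one [1,2,2,0,2,2,2,1,2,2,0,2,2,2,1,2,2,0,2,2,2] = true := by decide +kernel
theorem k4 : one [0,2,0,2,0,2,0,2,0,2,0,2,0,2,0,2] = true := by decide +kernel
theorem k5 : one [0,2,0,2,2,2,0,2,0,2,2,2,0,2,0,2,2,2,0,2,0,2,2,2] = true := by decide +kernel
theorem k6 : allL one [[4,0,4,0],[4,2,1,3,3,1,3,1,3,4,2,0,2,0,2,2,0,3,1,1]] = true := by decide +kernel
theorem k7 : one [4,3,1,3,1,3,3,3,4,2,2,2,0,2,0,2,0,3,1,3,1,3,3,3,4,2,2,2,0,2,0,2,0,3,1,3,1,3,3,3,4,2,2,2,0,2,0,2,0] = true := by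
  decide +kernel
theorem k8 : allL one [[5,5,5,5,5],[1,5,0,5,5],[6,3,5,2],[4,5,4,5,4,5]] = true := by decide +kernel
theorem k9 : allL (fun v => one (substW img v)) [[5,5,5,5,5],[1,5,0,5,5],[6,3,5,2],[4,5,4,5,4,5]] = true := by
  decide +kernel
theorem k10 : allL (fun a => trOK (2 ^ 20) 133 (nth tabs (idc (2 ^ 20) 133) a) (nth tabs (idc (2 ^ 20) 133) (nth I 7 a)))
    [0, 2, 4] = true := by decide +kernel
theorem k11 : band (allL (fun x => Nat.beq (red (2 ^ 20) 19 (1 * 133) x) x) O) (ndL O) = true := by decide +kernel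
theorem k12 : allL (fun a => keepB mw O [a]) [0, 2, 4] = true := by decide +kernel
theorem k13 : allL lvl (t11.take 3) = true := by decide +kernel
theorem k14 : allL lvl ((t11.drop 3).take 2) = true := by decide +kernel
theorem k15 : allL lvl ((t11.drop 5).take 2) = true := by decide +kernel
theorem k16 : allL lvl (t11.drop 7) = true := by decide +kernel
theorem k17 : allL (fun q => eqL (mw (substW ui q.2.2) [nth O 0 q.2.1]) [q.1]) (O.zip oW) = true := by decide +kernel
theorem k18 : movB mw O [0,2,4,3,3,3,4] v0 = true := by decide +kernel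
theorem k19 : allL (fun u => allL (fun m => candOK (cand u m)) [[], [0, 0]]) [[], [0], [0, 0], [1]] = true := by
  decide +kernel
theorem k20 : allL (fun u => neB mw v0 (app2 u [5]) (5 :: u))
    [[1], [0], [4], [0,0], [4,1], [4,0], [4,0,0], [4,3,4], [4,3,4,1], [4,3,4,3,4]] = true := by decide +kernel

end Cfsg.Agent.SpO.HN.M
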