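import Cfsg.Agent.Lib.SpO.HN.C0
import Cfsg.Agent.Lib.TCX.HSx

set_option autoImplicit false
set_option maxRecDepth 100000
set_option Elab.async false
set_option linter.unusedSectionVars false

namespace Cfsg.Agent.SpO.HN
open Cfsg.Agent.CG Cfsg.Agent.SpO

theorem ext : ExtOK CG.HSx.act 1408 16 app 24 94 slp where
  ok_iff _ := Iff.rfl
  old := appT_congr (tabs := CG.HSx.tabs) rfl rfl
  defs := allRange_of_allL (l := [24,25,26,27,28,29,30,31,32,33,34,35,36,37,38,39,40,41,42,43,44,45,46,47,48,49,50,51,52,53,54,55,56,57,58,59,60,61,62,63,64,65,66,67,68,69,70,71,72,73,74,75,76,77,78,79,80,81,82,83,84,85,86,87,88,89,90,91,92,93]) (by decide +kernel) (allL_cons c0 (allL_cons c1 (allL_cons c2 (allL_cons c3 (allL_cons c4 (allL_cons c5 (allL_cons c6 (allL_cons c7 (allL_cons c8 (allL_cons c9 (allL_cons c10 (allL_cons c11 (allL_cons c12 (allL_cons c13 (allL_cons c14 (allL_cons c15 (allL_cons c16 (allL_cons c17 (allL_cons c18 (allL_cons c19 (allL_cons c20 (allL_cons c21 (allL_cons c22 (allL_cons c23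 (allL_cons c24 (allL_cons c25 (allL_cons c26 (allL_cons c27 (allL_cons c28 (allL_cons c29 (allL_cons c30 (allL_cons c31 (allL_cons c32 (allL_cons c33 (allL_cons c34 (allL_cons c35 (allL_cons c36 (allL_cons c37 (allL_cons c38 (allL_cons c39 (allL_cons c40 (allL_cons c41 (allL_cons c42 (allL_cons c43 (allL_cons c44 (allL_cons c45 (allL_cons c46 (allL_cons c47 (allL_cons c48 (allL_cons c49 (allL_cons c50 (allL_cons c51 (allL_cons c52 (allL_cons c53 (allL_cons c54 (allL_cons c55 (allL_cons c56 (allL_cons c57 (allL_cons c58 (allL_cons c59 (allL_cons c60 (allL_cons c61 (allL_cons c62 (allL_cons c63 (allL_cons c64 (allL_cons c65 (allL_cons c66 (allL_cons c67 (allL_cons c68 (allL_cons c69 (allL_nil _)))))))))))))))))))))))))))))))))))))))))))))))))))))))))))))))))))))))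
  lt := by decide +kernel
  triv := appT_triv (by decide +kernel)
  trivk := c70

noncomputable def act : Act PG (Fin 1408) := ext.act

theorem hok : ∀ x, act.ok x ↔ okc 1408 16 x := fun _ => Iff.rfl

theorem hsur : ∀ p, ∃ i, i < 1408 ∧ p = act.pt (16 * i) := DC.act_surj CG.HSx.tabOK

theorem card : Nat.card PG = 177408000 := CG.HSx.card

theorem base0 : act.IsBase bs0 := CG.HSx.base

theorem hinv : ∀ a, act.gen (inv a) = (act.gen a)⁻¹ :=
  ext.inv (by decide) CG.HSx.base (by decide +kernel) (by decide +kernel)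

theorem ev_old {v : List ℕ} (e : ltAll 24 v = true) : ev act.gen v = ev CG.HSx.act.gen v := ext_ev ext e

theorem mc_ok : ChainOK act mc [] :=
  chainOK_of_chk act mc [] (by simp) (okc_of_okcb c77) c78
  (allL_cons c71 (allL_cons c72 (allL_cons c73 (allL_cons c74 (allL_cons c75 (allL_cons c76 (allL_nil _)))))))

theorem mc_le : Nat.card PG ≤ prodN mc := card.trans_le ((ble_iff _ _).1 (by decide +kernel))

theorem mc_base : act.IsBase mcB := (show bases mc = mcB from (eqL_iff _ _).1 (by decide +kernel)) ▸ mc_ok.isBase mc_le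

theorem md_ok : ChainOK act md [] :=
  chainOK_of_chk act md [] (by simp) (okc_of_okcb c84) c85
  (allL_cons c79 (allL_cons c80 (allL_cons c81 (allL_cons c82 (allL_cons c83 (allL_nil _))))))

theorem md_le : Nat.card PG ≤ prodN md := card.trans_le ((ble_iff _ _).1 (by decide +kernel))

theorem md_base : act.IsBase mdB := (show bases md = mdB from (eqL_iff _ _).1 (by decide +kernel)) ▸ md_ok.isBase md_le

theorem cc_ok : ChainOK act cc [] :=
  chainOK_of_chk act cc [] (by simp) (okc_of_okcb c89) c90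
  (allL_cons c86 (allL_cons c87 (allL_cons c88 (allL_nil _))))

theorem p_cent : ∀ g ∈ Subgroup.centralizer (cl act.gen pS : Set PG), ∃ φ ∈ pF, g = ev act.gen φ :=
  centralizer_subset (l := mc0) (L := [mc1, mc2, mc3, mc4, mc5]) mc_ok mc_le mc_base (Q := pQ) (Rf := pR) (by decide +kernel) (by decide +kernel) (by decide +kernel)
    c91

theorem base : act.IsBase bs := mc_base

theorem clAT : cl act.gen [29, 31] = ⊤ :=
  ext_top ext (lo := 29) (cnt := 29) (by decide) (by decide) (by decide +kernel) mc_ok mc_le (by decide +kernel)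

theorem cardP : Nat.card (cl act.gen pS) = 7 ^ 1 :=
  card_cl_singleton base (by norm_num) (by decide +kernel) (by decide +kernel)

theorem zeta_cent : ev act.gen [0,0] ∈ Subgroup.center PG := mem_center_of base clAT (by decide +kernel)

theorem autT (φ : MulAut PG) : ∃ g : PG, φ (act.gen 31) = g * act.gen 31 * g⁻¹ :=
  aut_class' base (r := 7) (by norm_num) cardP (not_dvd_of_eq card (by decide +kernel)) p_cent zeta_cent (s := 29) (by decide +kernel)
    c92 φ

theorem autA (φ : MulAut PG) : ∃ g : PG, ∃ a' ∈ aK, g * φ (act.gen 29) * g⁻¹ = act.gen a' :=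
  aut_pow base (p := 11) (by norm_num) (not_dvd_of_eq card (by decide +kernel))
    c93 φ

theorem enumOK : en.OK app tst 0 2200 0 6246567519269692593 :=
  (Enum.ok_of_chk c94)

theorem cent_le : prodN cc ≤ Nat.card (Subgroup.centralizer {act.gen 31}) :=
  le_card_centralizer base cc_ok c95

theorem classAll (g : PG) : ∃ f, act.Rep (g * act.gen 31 * g⁻¹) f ∧ tst f = true :=
  Enum.OK.all (A := act) (E := en) enumOK hinv (okc_of_okcb (n := 1408) (w := 16) (by decide +kernel)) cent_le
    (card ▸ (ble_iff _ _).1 (by decide +kernel)) g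

theorem autPair (φ : MulAut PG) : ∃ s ∈ [(29, 31), (29, 59)], ∃ g : PG, φ (act.gen 29) = g * act.gen s.1 * g⁻¹ ∧ φ (act.gen 31) = g * act.gen s.2 * g⁻¹ :=
  aut_pair base c96 (okc_of_okcb (n := 1408) (w := 16) (by decide +kernel)) autA autT classAll φ

theorem u_cent : ∀ g ∈ Subgroup.centralizer (cl act.gen uS : Set PG), ∃ φ ∈ uF, g = ev act.gen φ :=
  centralizer_subset (l := mc0) (L := [mc1, mc2, mc3, mc4, mc5]) mc_ok mc_le mc_base (Q := uQ) (Rf := uR) (by decide +kernel) (by decide +kernel) (by decide +kernel)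
    c97

theorem e_cent : ∀ g ∈ Subgroup.centralizer (cl act.gen eS : Set PG), ∃ φ ∈ eF, g = ev act.gen φ :=
  centralizer_subset (l := md0) (L := [md1, md2, md3, md4]) md_ok md_le md_base (Q := eQ) (Rf := eR) (by decide +kernel) (by decide +kernel) (by decide +kernel)
    c98

theorem fo_for (h : PG) : ∃ k ∈ cl act.gen foS, ∃ u ∈ foU, ∃ s, s • act.pt 0 = act.pt 0 ∧ k * h = ev act.gen u * s :=
  forest_word hok hsur ⟨0, by decide, rfl⟩ (roots := foX) (by decide +kernel)
    c99 h

theorem fx_fix {h : PG} (hp : ∀ a ∈ fxS, (h⁻¹ * act.gen a * h) • act.pt 0 = act.pt 0) :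
    ∃ u ∈ fxU, ∃ s, s • act.pt 0 = act.pt 0 ∧ h = ev act.gen u * s :=
  fix_word hok hsur ⟨0, by decide, rfl⟩ (F := fxX) (by decide +kernel)
    c100 hp


end Cfsg.Agent.SpO.HN
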