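import Cfsg.Agent.Lib.SpO.HN.MC
import Cfsg.Agent.Lib.SpO.HN.XMain
import Cfsg.Agent.Lib.SpO.Ut
import Cfsg.Agent.Lib.DC.HNG

/-! The Harada–Norton group: the faithful module of dimension 133 and the subgroup `2.HS.2`. -/

set_option autoImplicit false
set_option maxRecDepth 100000

namespace Cfsg.Agent.SpO.HN
open Cfsg.Agent.CG Cfsg.Agent.DC Cfsg.Agent.TCX Cfsg.Agent.Id Matrix

theorem comm_mid {G Γ : Type*} [Group G] [Group Γ] (ρ : G →* Γ) {a c b z : G} (ha : a * z = z * a) (hb : b * z = z * b)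
    (h : ρ (a * c * b * z) = ρ (z * (a * c * b))) : ρ (c * z) = ρ (z * c) := by
  rw [mul_assoc, hb, ← mul_assoc z, ← mul_assoc z, ← ha, ← mul_assoc, map_mul, map_mul ρ _ b, mul_left_inj,
    mul_assoc, mul_assoc, map_mul, map_mul ρ a, mul_right_inj] at h
  exact h

instance fact19 : _root_.Fact (Nat.Prime 19) := ⟨by norm_num⟩

theorem blk : IsBlk (apppT (2 ^ 20) 19 (1 * 133) M.tabs (idc (2 ^ 20) 133))
    (fun x => red (2 ^ 20) 19 (1 * 133) x = x) M.mw :=
  isBlk_mapw (by norm_num) (by norm_num) (by norm_num) (by norm_num) (by norm_num) M.ks M.k0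

/-- The matrices. -/
noncomputable def c : MatCode (Fin 133) (ZMod 19) :=
  code1 (2 ^ 20) 19 133 (by norm_num) (by norm_num) M.tabs M.I 7 (by decide +kernel) M.k0
    (blk.inv (ok_bas M.k0) M.k1)

theorem hpt (x : ℕ) (i : Fin 133) : c.act.pt x i = (dig (2 ^ 20) x i : ZMod 19) := code1_pt _ _ _ _ _ _ _ _ _ _ _ x i

theorem okO : ∀ x ∈ M.O, c.act.ok x := fun x hx =>
  (beq_iff _ _).1 ((allL_iff _ _).1 ((band_eq _ _).1 M.k11).1 x hx)

theorem ndO : M.O.Nodup := nodup_of_ndL ((band_eq _ _).1 M.k11).2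

theorem v0_mem : M.v0 ∈ M.O := (memL_iff _ _).1 (by decide +kernel)

theorem meq {v w : List ℕ} (h : eqB M.mw M.bas v w = true) : ev c.act.gen v = ev c.act.gen w :=
  c.base.ev_eq (blk.eq (ok_bas M.k0) h)

theorem mone {v : List ℕ} (h : M.one v = true) : ev c.act.gen v = 1 := c.base.ev_eq (blk.one (ok_bas M.k0) h)

theorem mne {v w : List ℕ} (h : neB M.mw M.v0 v w = true) : ev c.act.gen v ≠ ev c.act.gen w :=
  ne_of_neW (okO _ v0_mem) (blk.ne (okO _ v0_mem) h)

theorem cinv (w : List ℕ) : ev c.act.gen (ivw (nth M.I 7) w) = (ev c.act.gen w)⁻¹ :=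
  ev_ivw (inv := nth M.I 7) (code_inv c) w

theorem ccnt (zw : List ℕ) (k : ℕ) : cntB M.mw (2 ^ 20) 19 133 M.O zw k =
    cntL (fun x => Nat.beq (lev c.act.app (2 ^ 20) 19 133 zw x) k) M.O := blk.cnt okO _ _ _ _ _

theorem corth {a : ℕ} (ha : a ∈ [0, 2, 4]) : c.act.gen a ∈ orth (Fin 133) (ZMod 19) := by
  have h1 := (allL_iff _ _).1 M.k10 a ha
  refine mem_orth ?_
  ext i j
  rw [transpose_apply]
  exact (code1_mat _ _ _ _ _ _ _ _ _ _ _ a j i).trans ((congrArg _ (trOK_spec h1 i.2 j.2)).trans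
    (code1_mat _ _ _ _ _ _ _ _ _ _ _ (c.inv a) i j).symm)

theorem ckeep {a : ℕ} (ha : a ∈ [0, 2, 4]) : ev c.act.gen [a] ∈ keep _ (pts_finite c.act M.O) :=
  mem_keep okO (blk.keep okO ((allL_iff _ _).1 M.k12 a ha))

theorem cmov {x : ℕ} (hx : x ∈ M.O) (h : ev c.act.gen w11 • c.act.pt x = c.act.pt x) : x = M.v0 :=
  blk.mov okO M.k18 hx (c.act.inj _ _ (c.act.ok_evp _ (okO x hx)) (okO x hx) ((c.act.ev_smul _ (okO x hx)).symm.trans h))

theorem cO : M.O.map c.act.pt =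
    M.oW.map fun q => ev c.act.gen (substW M.ui q.2) • c.act.pt (nth M.O 0 q.1) := by
  have e1 : M.O = (M.O.zip M.oW).map Prod.fst := (List.map_fst_zip (by decide +kernel)).symm
  have e2 : M.oW = (M.O.zip M.oW).map Prod.snd := (List.map_snd_zip (by decide +kernel)).symm
  have e3 : allL (fun q => memL (nth M.O 0 q.2.1) M.O) (M.O.zip M.oW) = true := by decide +kernel
  rw [congrArg (List.map _) e1, congrArg (List.map _) e2, List.map_map, List.map_map]
  refine List.map_congr_left fun q hq => ?_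
  have h1 := okO _ ((memL_iff _ _).1 ((allL_iff _ _).1 e3 q hq))
  have h2 := (eqL_iff _ _).1 ((allL_iff _ _).1 M.k17 q hq)
  rw [blk _ _ (all_cons h1 all_nil), List.map_singleton, List.singleton_inj] at h2
  exact (congrArg c.act.pt h2.symm).trans (c.act.ev_smul _ h1).symm

abbrev G : Type := Spor.HN

instance finG : Finite G := HNG.finite

/-- The embedding of the table group. -/
noncomputable def f : PG →* G := HNG.model.choose

/-- The extra generator. -/
noncomputable def t : G := tauG Spor.HN.edges Spor.HN.extra HNG.gl 0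

/-- The letters. -/
noncomputable abbrev l : ℕ → G := lt HSx.act.gen f t 5

theorem spec : (∀ r ∈ HNG.R1, ev (tokv HSx.act.gen f fun _ => t) r = 1) ∧
    ∀ g, ev (tokv HSx.act.gen f fun _ => t) (sbW DC.HN.iv HNG.ws (HNG.code g)).1 = PresentedGroup.of g :=
  HNG.model.choose_spec

attribute [irreducible] f t

theorem top : Subgroup.closure (Set.range f ∪ {t}) = ⊤ := top_of_model spec.2

theorem hom {Γ : Type*} [Group Γ] (y : ℕ → Γ) (y1 : ∀ v ∈ HSx.tcR, ev y v = 1)
    (y2 : ∀ v ∈ [[5,5,5,5,5],[1,5,0,5,5],[6,3,5,2],[4,5,4,5,4,5]], ev y v = 1) (y3 : y 6 = (y 5)⁻¹)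
    (y4 : ∀ a, 7 ≤ a → y a = 1) : ∃ ρ : G →* Γ, ∀ a, ρ (l a) = y a :=
  exists_hom (R' := HNG.R1) CG.HSx.bounds HSx.rels HSx.clS HSx.card.ge DC.HN.hiv DC.HN.h256 spec.2
    (hs := HNG.h3) (by decide +kernel) (by decide +kernel) (by norm_num) (by decide +kernel) (by decide +kernel)
    (fun a => nth [.x, .x, .y, .y] .z a) (by decide +kernel) .t rfl y y1
    (fun v hv => y2 _ (List.mem_map_of_mem (f := List.map (tm 5)) hv)) y3 y4

theorem exρ : ∃ ρ : G →* GL (Fin 133) (ZMod 19), ∀ a, ρ (l a) = c.act.gen a := by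
  have k2 := (allL_iff _ _).1 M.k2
  have k6 := (allL_iff _ _).1 M.k6
  exact hom _ (fun v hv => mone (by
    simp only [HSx.tcR, List.mem_cons, List.not_mem_nil, or_false] at hv
    rcases hv with rfl | rfl | rfl | rfl | rfl | rfl | rfl | rfl | rfl | rfl | rfl | rfl
    exacts [k2 _ (by simp), k2 _ (by simp), k2 _ (by simp), k2 _ (by simp), k2 _ (by simp), k2 _ (by simp), M.k3, M.k4,
      M.k5, k6 _ (by simp), k6 _ (by simp), M.k7])) (fun v hv => mone ((allL_iff _ _).1 M.k8 v hv)) (code_inv c 5)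
    (code1_triv _ _ _ _ _ _ _ _ _ _ _)

/-- The representation. -/
noncomputable def ρ : G →* GL (Fin 133) (ZMod 19) := exρ.choose

theorem ρw (w : List ℕ) : ρ (ev l w) = ev c.act.gen w := map_ev' exρ.choose_spec w

attribute [irreducible] ρ c

theorem fw {w : List ℕ} (h : ltAll 5 w = true) : f (ev act.gen w) = ev l w := by
  rw [ev_lt _ _ _ h, ev_old]
  exact (allL_iff _ _).2 fun a ha => (blt_iff _ _).2 (((blt_iff _ _).1 ((allL_iff _ _).1 h a ha)).trans (by norm_num))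

theorem fl {a : ℕ} {w : List ℕ} (h : ltAll 5 w = true) (e : eqW app bs [a] w = true) : f (act.gen a) = ev l w := by
  rw [← fw h, ← base.ev_eq e, ev_singleton]

theorem l5 : l 5 = t := lt_self _ _ _ _
theorem l6 : l 6 = t⁻¹ := lt_succ _ _ _ _

theorem sem : ∀ j, j < 259 → Sem HSx.act false DC.HN.facts DC.HN.nd DC.HN.rules f (fun _ => t) (fun _ => 1) f.range
    (DC.HN.facts.get j) :=
  DC.HN.sem hz_one (rels_one (rels := DC.HN.rels) (HNG.R2 (HSx.hinv 0) (HSx.hinv 2) spec.1)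
    (by decide +kernel)) (fun g => ⟨g, rfl⟩) (by simp [DC.HN.lrels])

theorem stab {s : PG} (h : s • act.pt 0 = act.pt 0) : f s * t = t * f s :=
  stab_comm sem HSx.base HSx.chain HSx.card_le DC.HN.c5 DC.HN.c6 (by decide +kernel) h

theorem cover (g : G) : (∃ h, g = f h) ∨ ∃ q ∈ M.t11, ∃ k h, g = f k * ev l q.1 * f h := by
  have : Finite f.range := Finite.of_surjective _ f.rangeRestrict_surjective
  have k := fun {e : ℕ} {tb : ℕ → ℕ} => forest_sound sem hM_I (fun _ => one_mem _) DC.HN.hiv HSx.tabOK.w_pos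
    (fun _ => Iff.rfl) (act_surj HSx.tabOK) (e := e) (eps := 1) (x0 := 0) ⟨0, by decide, rfl⟩
    (fun _ hg => stab_passes sem hz_one (fun _ => one_mem _) HSx.chain HSx.card_le DC.HN.c5 DC.HN.c6 hg)
    (fin := DC.HN.fin) (tb := tb)
  obtain ⟨w, h1, _, ⟨k', rfl⟩, h, e⟩ := cover_words HSx.base (r := 5) (ns := [1, 2, 3, 5, 6, 7, 8, 9])
    (cw := nth M.cwL []) (uw := nth M.uwL []) rfl (by decide +kernel) (by decide +kernel)
    (cover_of (M := f.range) (t := t) (fin := DC.HN.fin) (by decide) (all_cons (k DC.HN.for0) (all_cons (k DC.HN.for1)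
      (all_cons (k DC.HN.for2) (all_cons (k DC.HN.for3) (all_cons (k DC.HN.for4) (all_cons (k DC.HN.for5)
      (all_cons (k DC.HN.for6) (all_cons (k DC.HN.for7) (all_cons (k DC.HN.for8) all_nil))))))))) top) g
  have e2 : DC.HN.fin.map (nth M.cwL []) = [] :: M.t11.map Prod.fst := by decide +kernel
  rw [e2, List.mem_cons, List.mem_map] at h1
  rcases h1 with rfl | ⟨q, hq, rfl⟩
  · exact Or.inl ⟨k' * h, by simpa using e⟩
  · exact Or.inr ⟨q, hq, k', h, e⟩

theorem lvl0 : ∀ q ∈ M.t11, M.lvl q = true := by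
  have e : M.t11 = M.t11.take 3 ++ ((M.t11.drop 3).take 2 ++ ((M.t11.drop 5).take 2 ++ M.t11.drop 7)) := rfl
  intro q hq
  rw [e, List.mem_append, List.mem_append, List.mem_append] at hq
  rcases hq with h | h | h | h
  exacts [(allL_iff _ _).1 M.k13 q h, (allL_iff _ _).1 M.k14 q h, (allL_iff _ _).1 M.k15 q h, (allL_iff _ _).1 M.k16 q h]

theorem lvl {q : List ℕ × List ℕ × ℕ × ℕ} (hq : q ∈ M.t11) :
    ev c.act.gen q.2.1 = (ρ (ev l q.1))⁻¹ * ρ (ev l [0, 0]) * ρ (ev l q.1) ∧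
      ρ (ev l q.1 * ev l [0, 0]) ≠ ρ (ev l [0, 0] * ev l q.1) ∧
      cntL (fun x => Nat.beq (lev c.act.app (2 ^ 20) 19 133 q.2.1 x) q.2.2.1) M.O = q.2.2.2 := by
  have := lvl0 q hq
  unfold M.lvl at this
  rw [band_eq, band_eq, eqL_iff, beq_iff, ccnt, app2_eq, app2_eq] at this
  refine ⟨?_, ?_, this.2.2⟩
  · rw [this.1, ρw, ρw, ev_append, cinv, mul_assoc, ← ev_append]; rfl
  · rw [← ev_append, ← ev_append, ρw, ρw]; exact mne this.2.1

/-- The central involution of the subgroup. -/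
noncomputable def z : G := ev l [0, 0]

theorem ez : ev l [0, 0] = z := rfl

attribute [irreducible] z

theorem fz : f (ev act.gen [0, 0]) = z := (fw rfl).trans ez

theorem zc (h : PG) : f h * z = z * f h := by
  rw [← fz, ← map_mul, ← map_mul, Subgroup.mem_center_iff.1 zeta_cent]

theorem mem_of_ρ {g : G} (h : ρ (g * z) = ρ (z * g)) : ∃ k, g = f k := by
  refine (cover g).resolve_right ?_
  rintro ⟨q, hq, k, k', rfl⟩
  refine (lvl hq).2.1 ?_
  rw [ez]
  exact comm_mid ρ (zc k) (zc k') h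

theorem tU : ∀ a ∈ foS, f (act.gen a) * t = t * f (act.gen a) := fun a ha =>
  stab (gen_fix (A := act) ⟨0, by decide, rfl⟩ (S := foS) (by decide +kernel) (gen_mem_cl _ ha))

theorem fix_of_ρ {h : PG} (e : ρ (f h * t) = ρ (t * f h)) : h • act.pt 0 = act.pt 0 := by
  obtain ⟨k, k1, u, hu, s, s1, s2⟩ := fo_for h
  rcases List.mem_cons.1 hu with rfl | hu
  · rw [ev_nil, one_mul] at s2
    rw [eq_inv_mul_of_mul_eq s2, mul_smul, s1, inv_smul_eq_iff,
      gen_fix (A := act) ⟨0, by decide, rfl⟩ (S := foS) (by decide +kernel) k1]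
  · have h1 := mne ((allL_iff _ _).1 M.k20 u hu)
    have h2 : ltAll 5 u = true := (allL_iff _ _).1 (show allL (ltAll 5) foU = true by decide +kernel) u
      (List.mem_cons_of_mem _ hu)
    rw [← ρw, ← ρw, app2_eq, ev_append, ev_cons _ 5 u, ev_singleton, l5, ← fw h2, eq_mul_inv_of_mul_eq s2.symm] at h1
    have h3 := congrArg ρ (comm_cl f tU k1)
    have h4 := congrArg ρ (stab s1)
    simp only [map_mul, map_inv] at h1 h3 h4 e
    refine absurd ?_ h1
    rw [mul_assoc, inv_mul_eq_of_eq_mul (a := ρ (f s)) (b := ρ t) (c := ρ t * (ρ (f s))⁻¹) (by rw [← mul_assoc, h4]; group),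
      ← mul_assoc, mul_assoc (ρ (f k)), e, ← mul_assoc, h3]
    group

theorem ρf {h : PG} (e : ρ (f h) = 1) : h = 1 :=
  eq_one_of_fix base0 (b := 0) ⟨0, by decide, rfl⟩ (ws := [[], [4, 3, 4, 3, 4], [4, 2, 4], [4]]) (by decide +kernel)
    fun k => fix_of_ρ (by simp [e])

theorem f_inj : Function.Injective f := (injective_iff_map_eq_one f).2 fun h e => ρf (by rw [e, map_one])

theorem ρ_inj : Function.Injective ρ := (injective_iff_map_eq_one ρ).2 fun g e => by
  obtain ⟨k, rfl⟩ := mem_of_ρ (g := g) (by simp [e])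
  rw [ρf e, map_one]

theorem geq {v w : List ℕ} (h : eqB M.mw M.bas v w = true) : ev l v = ev l w := ρ_inj (by rw [ρw, ρw, meq h])

theorem gne {v w : List ℕ} (h : neB M.mw M.v0 v w = true) : ev l v ≠ ev l w := fun e => mne h (by rw [← ρw, e, ρw])

theorem cl3 : cl act.gen [0, 2, 4] = ⊤ := by
  rw [eq_top_iff, ← HSx.clS]
  have m : ∀ a ∈ [0, 2, 4], act.gen a ∈ cl act.gen [0, 2, 4] := fun a => gen_mem_cl _
  have g : ∀ a, a < 24 → act.gen a ∈ cl act.gen [0, 2, 4] → HSx.act.gen a ∈ cl act.gen [0, 2, 4] := fun a ha h =>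
    ext.gen_lt ha ▸ h
  exact cl_le _ (all_cons (g 0 (by simp) (m 0 (by simp))) (all_cons (g 1 (by simp) (hinv 0 ▸ inv_mem (m 0 (by simp)) :))
    (all_cons (g 2 (by simp) (m 2 (by simp))) (all_cons (g 3 (by simp) (hinv 2 ▸ inv_mem (m 2 (by simp)) :))
    (all_cons (g 4 (by simp) (m 4 (by simp))) all_nil)))))

theorem ρ3 {a : ℕ} (ha : a ∈ [0, 2, 4]) : (ρ.comp f) (act.gen a) = ev c.act.gen [a] := by
  rw [MonoidHom.comp_apply, ← ev_singleton act.gen,
    fw ((allL_iff _ _).1 (show allL (fun a => ltAll 5 [a]) [0, 2, 4] = true from rfl) a ha), ρw]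

theorem ρ_orth (h : PG) : ρ (f h) ∈ orth (Fin 133) (ZMod 19) :=
  mem_cl cl3 (ρ.comp f) (fun a ha => by rw [ρ3 ha, ev_singleton]; exact corth ha) h

theorem ρ_keep (h : PG) : ρ (f h) ∈ keep _ (pts_finite c.act M.O) :=
  mem_cl cl3 (ρ.comp f) (fun a ha => by rw [ρ3 ha]; exact ckeep ha) h

end Cfsg.Agent.SpO.HN
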