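import Cfsg.Agent.Lib.SpO.HN.Mod

/-! The automorphisms of the Harada–Norton group. -/

set_option autoImplicit false
set_option maxRecDepth 100000

namespace Cfsg.Agent.SpO.HN
open Cfsg.Agent.CG Cfsg.Agent.DC Cfsg.Agent.TCX Cfsg.Agent.Id Matrix

theorem cpow {G : Type*} [Group G] (a b : G) (n : ℕ) : (a⁻¹ * b * a) ^ n = a⁻¹ * b ^ n * a := by
  simpa using conj_pow (a := a⁻¹) (b := b) (i := n)

theorem t_pow : t ^ 5 = 1 := ((HNG.R1_iff (HSx.hinv 0) (HSx.hinv 2) f t).1 spec.1).1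

theorem a_pow : act.gen 29 ^ 11 = 1 := by rw [← ev_repL]; exact base.ev_eq (w := []) (by decide +kernel)

theorem a_ne : act.gen 29 ≠ 1 := by
  simpa using act.ev_ne_of_eqW base.1 (v := [29]) (w := []) (by decide +kernel)

theorem n121 : ¬ 11 ^ (1 + 1) ∣ Nat.card PG := not_dvd_of_eq card (by decide +kernel)

theorem fix_conj {H Γ V : Type*} [Group H] [Group Γ] [MulAction Γ V] (φ : H →* Γ) {k a b : H} {j : ℤ}
    (h : k * a * k⁻¹ = b ^ j) {v : V} (hv : φ b • v = v) : φ a • (φ k⁻¹ • v) = φ k⁻¹ • v := by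
  have : φ (b ^ j) • v = v := by rw [map_zpow]; exact zpow_mem (MulAction.mem_stabilizer_iff.2 hv) j
  rw [← h, map_mul, map_mul, mul_smul, mul_smul] at this
  rw [map_inv, eq_inv_smul_iff, ← map_inv, this]

theorem fix_one {b : PG} (b1 : b ^ 11 = 1) (b2 : b ≠ 1) : ∀ v ∈ pts c.act M.O, ∀ w ∈ pts c.act M.O,
    ρ (f b) • v = v → ρ (f b) • w = w → v = w := by
  obtain ⟨k, j, e⟩ := conj_zpow (by norm_num) n121 a_pow a_ne b1 b2
  have key : ∀ v ∈ pts c.act M.O, ρ (f b) • v = v → ρ (f k⁻¹) • v = c.act.pt M.v0 := fun v hv h => by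
    have h1 := fix_conj (ρ.comp f) e h
    obtain ⟨x, hx, h2⟩ := ρ_keep k⁻¹ v hv
    rw [MonoidHom.comp_apply, MonoidHom.comp_apply, fl (w := w11) rfl (by decide +kernel), ρw, ← h2] at h1
    rw [← h2, cmov hx h1]
  exact fun v hv w hw h1 h2 => MulAction.injective _ ((key v hv h1).trans (key w hw h2).symm)

theorem conj_comm {G Γ : Type*} [Group G] [Group Γ] (ρ : G →* Γ) {a b c z : G} (h : a * z = z * a)
    (e : c⁻¹ * a * c = b) : ρ b * ((ρ c)⁻¹ * ρ z * ρ c) = (ρ c)⁻¹ * ρ z * ρ c * ρ b := by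
  rw [← e, ← map_inv, ← map_mul, ← map_mul, ← map_mul, ← map_mul]
  congr 1
  calc _ = c⁻¹ * (a * z) * c := by group
    _ = _ := by rw [h]; group

theorem mem_of_conj {g : G} {b : PG} (h : g⁻¹ * f (act.gen 29) * g = f b) : ∃ k, g = f k := by
  refine (cover g).resolve_right ?_
  rintro ⟨q, hq, k, k', rfl⟩
  have e : (ev l q.1)⁻¹ * f (k⁻¹ * act.gen 29 * k) * ev l q.1 = f (k' * b * k'⁻¹) := by
    rw [map_mul, map_mul, map_mul, map_mul, map_inv, map_inv, ← h]; group
  have b1 : (k' * b * k'⁻¹) ^ 11 = 1 := f_inj (by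
    rw [map_pow, ← e, cpow, ← map_pow, cpow, a_pow]; simp)
  have b2 : k' * b * k'⁻¹ ≠ 1 := fun h1 => a_ne (f_inj (by
    rw [h1, map_one, map_mul, map_mul, map_inv] at e
    simpa [mul_assoc, inv_mul_eq_one, eq_inv_mul_iff_mul_eq] using e))
  have := level_mod hpt okO ndO (zw := q.2.1) q.2.2.1 (by norm_num : Nat.Prime 11)
    (by rw [← map_pow, ← map_pow, b1, map_one, map_one]) (ρ_keep _) (ρ_orth _)
    (by rw [(lvl hq).1, ez]; exact conj_comm ρ (zc _) e) (fix_one b1 b2)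
  rw [(lvl hq).2.2] at this
  have h2 := (blt_iff _ _).1 ((allL_iff _ _).1
    (show allL (fun q => blt 1 (q.2.2.2 % 11)) M.t11 = true by decide +kernel) q hq)
  omega

theorem z_sq : z * z = 1 := by
  rw [← fz, ← map_mul, ← ev_append, base.ev_eq (w := []) (by decide +kernel), ev_nil, map_one]

theorem z_ne : z ≠ 1 := by
  rw [← fz, ← map_one f, f_inj.ne_iff]
  exact act.ev_ne_of_eqW base.1 (w := []) (by decide +kernel)

theorem norm_z (φ : MulAut G) : ∃ g, (MulAut.conj g * φ : MulAut G) z = z := by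
  have := _root_.Fact.mk (by norm_num : Nat.Prime 11)
  have o : orderOf (f (act.gen 29)) = 11 := by rw [orderOf_injective f f_inj, orderOf_eq_prime a_pow a_ne]
  have hP : Nat.card (Subgroup.zpowers (f (act.gen 29))) = 11 ^ 1 := by rw [Nat.card_zpowers, o, pow_one]
  have hle : Subgroup.zpowers (f (act.gen 29)) ≤ f.range := Subgroup.zpowers_le.2 ⟨_, rfl⟩
  obtain ⟨g, hg⟩ := exists_norm (by norm_num) hP (not_dvd_of_norm (K := f.range) (by norm_num) hP
    (by rw [← Nat.card_congr (MonoidHom.ofInjective f_inj).toEquiv]; exact n121) fun g h => by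
      obtain ⟨b, hb⟩ := hle (h _ (Subgroup.mem_zpowers _))
      obtain ⟨k, hk⟩ := mem_of_conj hb.symm
      exact ⟨k, hk.symm⟩) φ
  refine ⟨g, ?_⟩
  generalize MulAut.conj g * φ = β at hg
  obtain ⟨x, ⟨j, rfl⟩, hx⟩ : f (act.gen 29) ∈ (Subgroup.zpowers (f (act.gen 29))).map β.toMonoidHom := by
    rw [hg]; exact Subgroup.mem_zpowers _
  have h1 : f (act.gen 29) * β z = β z * f (act.gen 29) := by
    rw [← hx]
    simp only [← map_zpow, MulEquiv.coe_toMonoidHom, ← map_mul, zc]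
  obtain ⟨k, hk⟩ := mem_of_conj (g := β z) (b := act.gen 29) (by rw [mul_assoc, h1]; group)
  rw [hk, ← map_mul, ← map_mul] at h1
  obtain ⟨w, hw, rfl⟩ := e_cent k (mem_cent_cl (all_cons (f_inj h1) all_nil))
  have h2 := (allL_iff _ _).1 (show allL (fun w => bor (eqW app bs w []) (bor (eqW app bs w [0, 0])
    (bnot (eqW app bs (app2 w w) [])))) eF = true by decide +kernel) w hw
  rw [bor_eq, bor_eq, bnot_eq, app2_eq] at h2
  rcases h2 with h2 | h2 | h2
  · rw [base.ev_eq h2, ev_nil, map_one, EmbeddingLike.map_eq_one_iff] at hk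
    exact absurd hk z_ne
  · rw [hk, base.ev_eq h2, fz]
  · refine absurd (f_inj ?_) (act.ev_ne_of_eqW base.1 h2)
    rw [ev_append, map_mul, ← hk, ← map_mul, z_sq, map_one, ev_nil, map_one]

theorem norm_H (φ : MulAut G) : ∃ g, (MulAut.conj g * φ : MulAut G) (f (act.gen 29)) = f (act.gen 29) ∧
    ((MulAut.conj g * φ : MulAut G) (f (act.gen 31)) = f (act.gen 31) ∨
      (MulAut.conj g * φ : MulAut G) (f (act.gen 31)) = f (act.gen 59)) := by
  obtain ⟨g, hg⟩ := norm_z φ
  obtain ⟨γ, hγ⟩ := exists_restrict f_inj (MulAut.conj g * φ) fun x => by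
    obtain ⟨k, hk⟩ := mem_of_ρ (g := (MulAut.conj g * φ : MulAut G) (f x)) (by
      conv_lhs => rw [← hg, ← map_mul, zc, map_mul, hg])
    exact ⟨k, hk.symm⟩
  obtain ⟨s, hs, k, h1, h2⟩ := autPair γ
  have e : ∀ x, (MulAut.conj ((f k)⁻¹ * g) * φ : MulAut G) (f x) = f (k⁻¹ * γ x * k) := fun x => by
    rw [map_mul f, map_mul f, hγ, map_inv]; simp [mul_assoc]
  refine ⟨(f k)⁻¹ * g, ?_⟩
  rw [e, e, h1, h2]
  simp only [List.mem_cons, List.not_mem_nil, or_false] at hs
  rcases hs with rfl | rfl <;> simp [mul_assoc]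

theorem exσ : ∃ σ : MulAut G, ∀ a, σ (l a) = ev l (M.img a) := by
  obtain ⟨σ, hσ⟩ := hom (fun a => ev l (M.img a)) (fun v hv => by
    have := (allL_iff _ _).1 (show allL (fun v => band (ltAll 5 (substW M.img v)) (eqW app bs (substW M.img v) []))
      HSx.tcR = true by decide +kernel) v hv
    rw [band_eq] at this
    rw [← ev_substW, ← fw this.1, base.ev_eq this.2, ev_nil, map_one])
    (fun v hv => by rw [← ev_substW]; exact ρ_inj (by rw [ρw, mone ((allL_iff _ _).1 M.k9 v hv), map_one]))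
    (by
      change ev l [6, 6] = (ev l [5, 5])⁻¹
      simp [l5, l6])
    (fun a ha => by unfold M.img; rw [nth_triv _ _ (by simpa using ha), ev_nil])
  have e : ∀ w, σ (ev l w) = ev l (substW M.img w) := fun w => by rw [ev_substW]; exact map_ev' hσ w
  obtain ⟨τ, hτ⟩ := aut_of_hom cl3 top σ (fun a ha => by
    have := (allL_iff _ _).1 (show allL (fun a => anyL (fun w => band (ltAll 5 (substW M.img w))
      (eqW app bs [a] (substW M.img w))) [[0], [2], [4, 0, 0]]) [0, 2, 4] = true by decide +kernel) a ha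
    obtain ⟨w, -, hw⟩ := (anyL_iff _ _).1 this
    rw [band_eq] at hw
    exact ⟨ev l w, by rw [e, fl hw.1 hw.2]⟩)
    ⟨ev l [5, 5, 5], by
      rw [e, show ev l (substW M.img [5, 5, 5]) = l 5 ^ 6 from ev_repL l 6 5, l5, pow_succ, t_pow, one_mul]⟩
  exact ⟨τ, fun a => by rw [hτ, hσ]⟩

theorem tz : t⁻¹ * z * t = z * (t * t) := by
  obtain ⟨k1, k2, -⟩ := (HNG.R1_iff (HSx.hinv 0) (HSx.hinv 2) f t).1 spec.1
  have h := inv_rule k1 k2
  have e : z = f (HSx.act.gen 0) * f (HSx.act.gen 0) := by rw [← ez]; simp [lt]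
  rw [← e] at h
  calc _ = z * (z⁻¹ * t * z)⁻¹ * t := by group
    _ = _ := by rw [h]; group

theorem countP_map_eq {α β V : Type*} {O : List α} {W : List β} {p : α → V} {F : β → V} (h : O.map p = W.map F)
    (P : V → Prop) [DecidablePred P] : (O.countP fun x => P (p x)) = W.countP fun q => P (F q) :=
  (List.countP_map (p := fun v => P v)).symm.trans (by rw [h, List.countP_map]; rfl)

theorem shift_eq {G Γ : Type*} [Group G] [Group Γ] (ρ : G →* Γ) {y z c k h u : G} (hk : k * z = z * k)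
    (e : y⁻¹ = k * c * h) (hu : u * (y * z * y⁻¹) = y * z * y⁻¹ * u) :
    ρ (h * u * h⁻¹) * ((ρ c)⁻¹ * ρ z * ρ c) = (ρ c)⁻¹ * ρ z * ρ c * ρ (h * u * h⁻¹) := by
  have e2 : y * z * y⁻¹ = h⁻¹ * (c⁻¹ * z * c) * h := by
    rw [← inv_inv y, e, inv_inv, ← mul_assoc, ← mul_assoc, mul_assoc _ z k, ← hk]; group
  rw [e2] at hu
  rw [← map_inv, ← map_mul, ← map_mul, ← map_mul, ← map_mul]
  congr 1
  calc _ = h * (u * (h⁻¹ * (c⁻¹ * z * c) * h)) * h⁻¹ := by group
    _ = _ := by rw [hu]; group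

theorem cnt50 (P : ℕ → Prop) [DecidablePred P] : (M.oW.countP fun q => P q.1) % 50 = 0 := by
  have : M.oW.countP (fun q => P q.1) = (M.oW.map Prod.fst).countP fun a => P a := by rw [List.countP_map]; rfl
  rw [this, (show (M.oW.map Prod.fst).Perm (List.replicate 50 0 ++ List.replicate 50 1) by decide +kernel).countP_eq,
    List.countP_append, List.countP_replicate, List.countP_replicate]
  split_ifs <;> rfl

theorem first {y : G} (hy : ∀ u ∈ cl act.gen fxS, f u * (y * z * y⁻¹) = y * z * y⁻¹ * f u) :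
    (∃ h, y⁻¹ = f h) ∨ ∃ k h, y⁻¹ = f k * t * f h := by
  refine (cover y⁻¹).imp id ?_
  rintro ⟨q, hq, k, h, e⟩
  have h1 := level_shift hpt okO ndO q.2.1 q.2.2.1 (ρ_keep h)
  have h2 : (M.O.countP fun x => frm (ev c.act.gen q.2.1) (ρ (f h) • c.act.pt x) = q.2.2.1) =
      M.oW.countP fun r => frm (ev c.act.gen q.2.1) (ρ (f h) • c.act.pt (nth M.O 0 r.1)) = q.2.2.1 := by
    refine (countP_map_eq cO fun v => frm (ev c.act.gen q.2.1) (ρ (f h) • v) = q.2.2.1).trans
      (List.countP_congr fun r hr => ?_)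
    have h3 : ltAll 5 (substW M.ui r.2) = true :=
      (allL_iff _ _).1 (show allL (fun r => ltAll 5 (substW M.ui r.2)) M.oW = true by decide +kernel) r hr
    have h4 : ev act.gen (substW M.ui r.2) ∈ cl act.gen fxS := by
      rw [ev_substW]
      refine ev_mem _ fun a _ => ?_
      rcases a with _ | a
      · exact ev_mem _ (all_cons (gen_mem_cl _ (by decide)) all_nil)
      · rw [show ev act.gen (M.ui (a + 1)) = ev act.gen [24] from base.ev_eq (v := [1, 2, 0]) (by decide +kernel)]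
        exact ev_mem _ (all_cons (gen_mem_cl _ (by decide)) all_nil)
    have h5 := frm_smul (Z := ev c.act.gen q.2.1) (ρ_orth (h * ev act.gen (substW M.ui r.2) * h⁻¹))
      (by rw [(lvl hq).1, ez, map_mul f, map_mul f, map_inv f]; exact shift_eq ρ (zc k) e (hy _ h4))
      (ρ (f h) • c.act.pt (nth M.O 0 r.1))
    rw [← mul_smul, ← map_mul, ← map_mul, inv_mul_cancel_right, map_mul, map_mul, mul_smul, fw h3, ρw] at h5
    rw [h5]
  rw [(lvl hq).2.2, h2] at h1
  have h3 := cnt50 fun a => frm (ev c.act.gen q.2.1) (ρ (f h) • c.act.pt (nth M.O 0 a)) = q.2.2.1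
  have h4 := (allL_iff _ _).1 (show allL (fun q => bor (eqL q.1 [5]) (blt 0 (q.2.2.2 % 50))) M.t11 = true by
    decide +kernel) q hq
  rw [bor_eq, eqL_iff, blt_iff] at h4
  rw [h4.resolve_right (by omega), ev_singleton, l5] at e
  exact ⟨k, h, e⟩

theorem last_step {G : Type*} [Group G] {y z t k h u : G} (hk : k * z = z * k) (hh : h * z = z * h)
    (hu : u * z = z * u) (ht : t⁻¹ * z * t = z * (t * t)) (h5 : t ^ 5 = 1) (e : y⁻¹ = k * t * h)
    (hy : u * (y * z * y⁻¹) = y * z * y⁻¹ * u) : h * u * h⁻¹ * t = t * (h * u * h⁻¹) := by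
  have e2 : y * z * y⁻¹ = z * (h⁻¹ * (t * t) * h) := by
    rw [← inv_inv y, e, inv_inv, ← mul_assoc, ← mul_assoc, mul_assoc _ z k, ← hk]
    calc _ = h⁻¹ * (t⁻¹ * z * t) * h := by group
      _ = h⁻¹ * z * (t * t) * h := by rw [ht]; group
      _ = _ := by rw [(Commute.inv_left hh).eq]; group
  rw [e2, ← mul_assoc, hu, mul_assoc, mul_assoc z, mul_right_inj] at hy
  have h1 : Commute (h * u * h⁻¹) (t * t) := by
    calc _ = h * (u * (h⁻¹ * (t * t) * h)) * h⁻¹ := by group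
      _ = _ := by rw [hy]; group
  have h2 := h1.pow_right 3
  rwa [← pow_two, ← pow_mul, pow_succ, h5, one_mul] at h2

theorem inn_of_fix {β : MulAut G} (hβ : ∀ h, β (f h) = f h) : β ∈ Inn G := by
  have hz : β z = z := by rw [← fz, hβ]
  have hU : ∀ u ∈ cl act.gen fxS, f u * t = t * f u := fun u hu =>
    comm_cl f (fun a ha => tU a ((show ∀ a ∈ fxS, a ∈ foS by decide) a ha)) hu
  have hU' : ∀ u ∈ cl act.gen fxS, f u * β t = β t * f u := fun u hu => by rw [← hβ, ← map_mul, hU u hu, map_mul]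
  have hy : ∀ u ∈ cl act.gen fxS, f u * (β t * z * (β t)⁻¹) = β t * z * (β t)⁻¹ * f u := fun u hu =>
    (((show Commute _ _ from hU' u hu).mul_right (zc u)).mul_right (Commute.inv_right (hU' u hu))).eq
  rcases first hy with ⟨h, e⟩ | ⟨k, h, e⟩
  · rw [← hβ, ← map_inv, EmbeddingLike.apply_eq_iff_eq] at e
    have := (lvl (q := ([5], [6, 0, 0, 5], 8, 50)) (by simp [M.t11])).2.1
    rw [ev_singleton, l5, ez, ← inv_inv t, e, ← map_inv, zc] at this
    exact absurd rfl this
  obtain ⟨u, hu, s, s1, s2⟩ := fx_fix (h := h⁻¹) fun a ha => fix_of_ρ (congrArg ρ (by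
    rw [inv_inv, map_mul, map_mul, map_inv]
    exact last_step (zc k) (zc h) (zc _) tz t_pow e (hy _ (gen_mem_cl _ ha))))
  have hu5 : ltAll 5 u = true := (allL_iff _ _).1 (show allL (ltAll 5) fxU = true by decide +kernel) u hu
  have e1 : β t = ev l u * t⁻¹ * (ev l u)⁻¹ * f (h⁻¹ * k⁻¹) := by
    rw [← inv_inv (β t), e, ← fw hu5, eq_mul_inv_of_mul_eq s2.symm, map_mul, map_mul, map_inv, map_inv, map_inv,
      mul_assoc _ (f s)⁻¹, ← _root_.mul_inv_rev, ← stab s1]
    group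
  have hv : ∀ a ∈ uS, (ev act.gen u)⁻¹ * act.gen a * ev act.gen u ∈ MulAction.stabilizer PG (act.pt 0) := by
    intro a ha
    have h0 : act.ok 0 := ⟨0, by decide, rfl⟩
    have := (allL_iff _ _).1 ((allL_iff _ _).1 (show allL (fun u => allL (fun a =>
      Nat.beq (app a (evp app u 0)) (evp app u 0)) uS) fxU = true by decide +kernel) u hu) a ha
    rw [MulAction.mem_stabilizer_iff, mul_smul, mul_smul, inv_smul_eq_iff, act.ev_smul u h0,
      act.smul_pt a _ (act.ok_evp u h0)]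
    exact congrArg act.pt ((beq_iff _ _).1 this)
  obtain ⟨m, hm, e2⟩ := u_cent (h⁻¹ * k⁻¹) (mem_cent_cl fun a ha => f_inj (by
    have h1 := hU' _ (gen_mem_cl _ ha)
    have h2 := stab (hv a ha)
    rw [map_mul, map_mul, map_inv, fw hu5] at h2
    have h3 : Commute (f (act.gen a)) (ev l u * t⁻¹ * (ev l u)⁻¹) := by
      calc _ = ev l u * (t⁻¹ * (t * ((ev l u)⁻¹ * f (act.gen a) * ev l u)) * t⁻¹) * (ev l u)⁻¹ := by group
        _ = _ := by rw [← h2]; group
    rw [e1, ← mul_assoc, h3.eq, mul_assoc, mul_assoc _ (f _), mul_right_inj] at h1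
    rw [map_mul f (act.gen a), h1, ← map_mul]))
  have hm5 : ltAll 5 m = true := (allL_iff _ _).1 (show allL (ltAll 5) uF = true by decide +kernel) m hm
  have e3 : β t = ev l (M.cand u m) := ρ_inj (by
    rw [e1, e2, fw hm5, ρw, M.cand, app2_eq, app2_eq, ev_append, ev_cons, ev_append, cinv, ← l6, map_mul, map_mul,
      map_mul, map_inv, ρw, ρw, ← ev_singleton l, ρw, ev_singleton, mul_assoc, mul_assoc])
  have h4 := (allL_iff _ _).1 ((allL_iff _ _).1 M.k19 u hu) m hm
  unfold M.candOK at h4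
  rw [bor_eq, bor_eq, bor_eq] at h4
  rcases h4 with h4 | h4 | h4 | h4
  · refine absurd ?_ (gne h4)
    have h5 := congrArg β ((HNG.R1_iff (HSx.hinv 0) (HSx.hinv 2) f t).1 spec.1).2.2.2
    rw [map_pow, map_mul, hβ, map_one, e3] at h5
    rw [ev_powL, ev_cons]; exact h5
  · refine absurd ?_ (gne h4)
    rw [ev_powL, ← e3, ← map_pow, t_pow, map_one, ev_nil]
  · rw [geq h4, ev_singleton, l5] at e3
    rw [aut_ext top (β := 1) hβ e3]; exact one_mem _
  · refine ⟨z, aut_ext top (fun x => by rw [hβ, MulAut.conj_apply, ← zc, mul_inv_cancel_right]) ?_⟩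
    rw [e3, geq h4, MulAut.conj_apply, ← fz, ← map_inv, inv_eq_of_mul_eq_one_right (show ev act.gen [0, 0] *
      ev act.gen [1, 1] = 1 by rw [← ev_append]; exact base.ev_eq (w := []) (by decide +kernel)), fw rfl, fw rfl,
      ← l5, ← ev_singleton l, ← ev_append, ← ev_append]
    rfl

theorem card_out : Nat.card (Out G) = 2 := by
  obtain ⟨σ, hσ⟩ := exσ
  have e : ∀ {a b : ℕ} {w : List ℕ}, band (band (ltAll 5 w) (ltAll 5 (substW M.img w)))
      (band (eqW app bs [a] w) (eqW app bs [b] (substW M.img w))) = true → σ (f (act.gen a)) = f (act.gen b) := by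
    intro a b w h
    rw [band_eq, band_eq, band_eq] at h
    rw [fl h.1.1 h.2.1, fl h.1.2 h.2.2, ev_substW]
    exact map_ev' (φ := σ.toMonoidHom) hσ w
  refine card_out_two (σ := σ) ?_ fun φ => ?_
  · rintro ⟨g, rfl⟩
    have h0 := e (a := 0) (b := 0) (w := [0]) (by decide +kernel)
    obtain ⟨k, rfl⟩ := mem_of_ρ (g := g) (congrArg ρ (by
      rw [← fz, ev_cons, ev_singleton, map_mul]
      exact (Commute.mul_right (mul_inv_eq_iff_eq_mul.1 h0) (mul_inv_eq_iff_eq_mul.1 h0)).eq))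
    obtain ⟨m, hm, rfl⟩ := u_cent k (mem_cent_cl (all_cons (f_inj (by
      rw [map_mul, map_mul]
      exact (mul_inv_eq_iff_eq_mul.1 (e (a := 2) (b := 2) (w := [2]) (by decide +kernel))).symm)) (all_cons (f_inj (by
      rw [map_mul, map_mul]
      exact (mul_inv_eq_iff_eq_mul.1 (e (a := 24) (b := 24) (w := [1, 2, 0]) (by decide +kernel))).symm)) all_nil)))
    have h1 := mul_inv_eq_iff_eq_mul.1 (e (a := 31) (b := 59) (w := wt) (by decide +kernel))
    rw [← map_mul, ← map_mul, ← ev_singleton act.gen, ← ev_append, ← ev_cons] at h1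
    have h2 := (allL_iff _ _).1 (show allL (fun m => bnot (eqW app bs (app2 m [31]) (59 :: m))) uF = true by
      decide +kernel) m hm
    rw [bnot_eq, app2_eq] at h2
    exact act.ev_ne_of_eqW base.1 h2 (f_inj h1)
  · obtain ⟨g, h1, h2⟩ := norm_H φ
    refine ⟨g, h2.imp (fun h2 => inn_of_fix ?_) fun h2 => inn_of_fix ?_⟩
    · exact hom_ext_cl clAT (φ := (MulAut.conj g * φ : MulAut G).toMonoidHom.comp f) (all_cons h1 (all_cons h2 all_nil))
    · refine hom_ext_cl clAT (φ := (σ⁻¹ * (MulAut.conj g * φ) : MulAut G).toMonoidHom.comp f)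
        (all_cons ?_ (all_cons ?_ all_nil))
      · exact (congrArg σ.symm h1).trans (σ.symm_apply_eq.2 (e (w := w11) (by decide +kernel)).symm)
      · exact (congrArg σ.symm h2).trans (σ.symm_apply_eq.2 (e (w := wt) (by decide +kernel)).symm)

end Cfsg.Agent.SpO.HN
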