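import Cfsg.Agent.Lib.SpO.HN.D0
import Cfsg.Agent.Lib.Grp.HSx.Main
import Cfsg.Agent.Lib.SpO.Cls

set_option autoImplicit false
set_option maxRecDepth 100000
set_option Elab.async false
set_option linter.unusedSectionVars false

namespace Cfsg.Agent.SpO.HN
open Cfsg.Agent.CG Cfsg.Agent.SpO

noncomputable def tabs : List ℕ := [CG.HSx.t0,CG.HSx.t1,CG.HSx.t2,CG.HSx.t3,CG.HSx.t4,CG.HSx.t5,CG.HSx.t6,CG.HSx.t7,CG.HSx.t8,CG.HSx.t9,CG.HSx.t10,CG.HSx.t11,CG.HSx.t12,CG.HSx.t13,CG.HSx.t14,CG.HSx.t15,CG.HSx.t16,CG.HSx.t17,CG.HSx.t18,CG.HSx.t19,CG.HSx.t20,CG.HSx.t21,CG.HSx.t22,CG.HSx.t23,t24,t25,t26,t27,t28,t29,t30,t31,t32,t33,t34,t35,t36,t37,t38,t39,t40,t41,t42,t43,t44,t45,t46,t47,t48,t49,t50,t51,t52,t53,t54,t55,t56,t57,t58,t59,t60,t61,t62,t63,t64,t65,t66,t67,t68,t69,t70,t71,t72,t73,t74,t75,t76,t77,t78,t79,t80,t81,t82,t83,t84,t85,t86,t87,t88,t89,t90,t91,t92,t93]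
noncomputable abbrev app : ℕ → ℕ → ℕ := appT tabs CG.HSx.t24 0xffff
noncomputable def slpL : List (Bool × List ℕ) := [(false,[1,2,0]),
  (true,[24]),
  (false,[25,2,25,3,25]),
  (true,[26]),
  (false,[4,0]),
  (false,[0,2,4,3,3,3,4]),
  (true,[29]),
  (false,[4,1,3,3,1,3,0,28,1,2,0,2,2,0,4]),
  (false,[29,31,30,31,30]),
  (true,[32]),
  (false,[31,32,30]),
  (true,[34]),
  (false,[31,30,32]),
  (true,[36]),
  (false,[35,35,32,32,32]),
  (true,[38]),
  (false,[37,34,33,30,30]),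
  (true,[40]),
  (false,[30,36,35,29,35,36]),
  (true,[42]),
  (false,[41,43,38]),
  (true,[44]),
  (false,[40,38,41,42]),
  (true,[46]),
  (false,[40,38,38,38,40,43]),
  (true,[48]),
  (false,[48,45,49]),
  (true,[50]),
  (false,[49,47,44]),
  (true,[52]),
  (false,[53,50,52]),
  (true,[54]),
  (false,[52,52,51]),
  (false,[54,56,55]),
  (false,[29,35,43,41,43,43,45,51]),
  (false,[31,0,0]),
  (false,[48,4]),
  (true,[60]),
  (false,[5,58,6]),
  (false,[62,61,62,61]),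
  (true,[63]),
  (false,[64,64,64,61,63,63,60]),
  (true,[65]),
  (false,[61,64,61,64]),
  (false,[63,61,63,62,64,64,64,64]),
  (true,[68]),
  (false,[69,69,66,69]),
  (false,[1,4,2,4]),
  (true,[71]),
  (false,[71,4,0]),
  (true,[73]),
  (false,[1,3,74]),
  (true,[75]),
  (false,[72,74,0]),
  (true,[77]),
  (false,[0,78,2,76]),
  (true,[79]),
  (false,[75,1,4]),
  (true,[81]),
  (false,[77,2,77]),
  (true,[83]),
  (false,[81,79,81,83,80]),
  (true,[85]),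
  (false,[83,81,84]),
  (true,[87]),
  (false,[88,85,87]),
  (true,[89]),
  (false,[86,87,86,86]),
  (true,[91]),
  (false,[89,91,89,89,91,89,89])]
noncomputable def slp (a : ℕ) : Bool × List ℕ := nth slpL (false, []) (Nat.sub a 24)
noncomputable def invL : List ℕ := [1,0,3,2,4,6,5,8,7,10,9,12,11,14,13,16,15,18,17,20,19,22,21,23,25,24,27,26,28,30,29,31,33,32,35,34,37,36,39,38,41,40,43,42,45,44,47,46,49,48,51,50,53,52,55,54,56,57,58,59,61,60,62,64,63,66,65,67,69,68,70,72,71,74,73,76,75,78,77,80,79,82,81,84,83,86,85,88,87,90,89,92,91,93]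
noncomputable def inv (a : ℕ) : ℕ := nth invL 94 a
noncomputable abbrev PG := CG.HSx.PG
noncomputable abbrev bs0 : List ℕ := CG.HSx.bs
noncomputable def mc0 : Lvl := ⟨48, [29,30,31,32,33,34,35,36,37], 1408,
  fun i => look 0xffff mc0c (Nat.mul 16 i), fun i => look 0xfff mc0p (Nat.mul 12 i),
  fun i => look 0xff mc0l (Nat.mul 8 i), fun i => look 0xff mc0i (Nat.mul 8 i), fun x => look 0xffff mc0q x, 5⟩
noncomputable def mc1 : Lvl := ⟨2032, [38,39,40,41,42,43], 350,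
  fun i => look 0xffff mc1c (Nat.mul 16 i), fun i => look 0xfff mc1p (Nat.mul 12 i),
  fun i => look 0xff mc1l (Nat.mul 8 i), fun i => look 0xff mc1i (Nat.mul 8 i), fun x => look 0xffff mc1q x, 5⟩
noncomputable def mc2 : Lvl := ⟨7408, [44,45,46,47,48,49], 6,
  fun i => look 0xffff mc2c (Nat.mul 16 i), fun i => look 0xf mc2p (Nat.mul 4 i),
  fun i => look 0xff mc2l (Nat.mul 8 i), fun i => look 0xff mc2i (Nat.mul 8 i), fun x => look 0xffff mc2q x, 1⟩
noncomputable def mc3 : Lvl := ⟨8256, [50,51,52,53], 6,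
  fun i => look 0xffff mc3c (Nat.mul 16 i), fun i => look 0xf mc3p (Nat.mul 4 i),
  fun i => look 0xff mc3l (Nat.mul 8 i), fun i => look 0xff mc3i (Nat.mul 8 i), fun x => look 0xffff mc3q x, 2⟩
noncomputable def mc4 : Lvl := ⟨10480, [54,55,56], 5,
  fun i => look 0xffff mc4c (Nat.mul 16 i), fun i => look 0xf mc4p (Nat.mul 4 i),
  fun i => look 0xff mc4l (Nat.mul 8 i), fun i => look 0xff mc4i (Nat.mul 8 i), fun x => look 0xffff mc4q x, 2⟩
noncomputable def mc5 : Lvl := ⟨2112, [57], 2,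
  fun i => look 0xffff mc5c (Nat.mul 16 i), fun i => look 0xf mc5p (Nat.mul 4 i),
  fun i => look 0xff mc5l (Nat.mul 8 i), fun i => look 0xff mc5i (Nat.mul 8 i), fun x => look 0xffff mc5q x, 1⟩
noncomputable def mc : List Lvl := [mc0, mc1, mc2, mc3, mc4, mc5]
noncomputable def mcB : List ℕ := [48,2032,7408,8256,10480,2112]
noncomputable def md0 : Lvl := ⟨1328, [0,1,2,3,4,71,72,73,74,75,76,77,78], 1408,
  fun i => look 0xffff md0c (Nat.mul 16 i), fun i => look 0xfff md0p (Nat.mul 12 i),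
  fun i => look 0xff md0l (Nat.mul 8 i), fun i => look 0xff md0i (Nat.mul 8 i), fun x => look 0xffff md0q x, 5⟩
noncomputable def md1 : Lvl := ⟨4256, [79,80,81,82,83,84], 350,
  fun i => look 0xffff md1c (Nat.mul 16 i), fun i => look 0xfff md1p (Nat.mul 12 i),
  fun i => look 0xff md1l (Nat.mul 8 i), fun i => look 0xff md1i (Nat.mul 8 i), fun x => look 0xffff md1q x, 5⟩
noncomputable def md2 : Lvl := ⟨15984, [85,86,87,88], 6,
  fun i => look 0xffff md2c (Nat.mul 16 i), fun i => look 0xf md2p (Nat.mul 4 i),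
  fun i => look 0xff md2l (Nat.mul 8 i), fun i => look 0xff md2i (Nat.mul 8 i), fun x => look 0xffff md2q x, 2⟩
noncomputable def md3 : Lvl := ⟨20784, [89,90,91,92], 30,
  fun i => look 0xffff md3c (Nat.mul 16 i), fun i => look 0xff md3p (Nat.mul 8 i),
  fun i => look 0xff md3l (Nat.mul 8 i), fun i => look 0xff md3i (Nat.mul 8 i), fun x => look 0xffff md3q x, 4⟩
noncomputable def md4 : Lvl := ⟨19920, [93], 2,
  fun i => look 0xffff md4c (Nat.mul 16 i), fun i => look 0xf md4p (Nat.mul 4 i),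
  fun i => look 0xff md4l (Nat.mul 8 i), fun i => look 0xff md4i (Nat.mul 8 i), fun x => look 0xffff md4q x, 1⟩
noncomputable def md : List Lvl := [md0, md1, md2, md3, md4]
noncomputable def mdB : List ℕ := [1328,4256,15984,20784,19920]
noncomputable def cc0 : Lvl := ⟨0, [60,61,62,63,64], 672,
  fun i => look 0xffff cc0c (Nat.mul 16 i), fun i => look 0xfff cc0p (Nat.mul 12 i),
  fun i => look 0xff cc0l (Nat.mul 8 i), fun i => look 0xff cc0i (Nat.mul 8 i), fun x => look 0xffff cc0q x, 8⟩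
noncomputable def cc1 : Lvl := ⟨272, [65,66,67,68,69], 60,
  fun i => look 0xffff cc1c (Nat.mul 16 i), fun i => look 0xff cc1p (Nat.mul 8 i),
  fun i => look 0xff cc1l (Nat.mul 8 i), fun i => look 0xff cc1i (Nat.mul 8 i), fun x => look 0xffff cc1q x, 4⟩
noncomputable def cc2 : Lvl := ⟨48, [70], 2,
  fun i => look 0xffff cc2c (Nat.mul 16 i), fun i => look 0xf cc2p (Nat.mul 4 i),
  fun i => look 0xff cc2l (Nat.mul 8 i), fun i => look 0xff cc2i (Nat.mul 8 i), fun x => look 0xffff cc2q x, 1⟩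
noncomputable def cc : List Lvl := [cc0, cc1, cc2]
noncomputable def pS : List ℕ := [26]
noncomputable def pQ : List (List ℕ) := [[],
  [26],
  [26,26],
  [26,26,26],
  [26,26,26,26],
  [26,26,26,26,26]]
noncomputable def pR : List (List ℕ) := [[26]]
noncomputable def pF : List (List ℕ) := [[],
  [33,34,31,29,39,40,38,46,53,54,54,57],
  [35,36,35,38,41,38,53,56],
  [29,35,43,41,43,43,45,51],
  [36,35,38,42,42,38,48,50,50,54],
  [29,34,33,43,40,38,38,54,54,57],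
  [36,36,30,32,42,38,42,38,45,52,54,54,57],
  [35,31,33,29,43,39,42,39,44,50,54],
  [37,37,37,29,40,39,40,46,53,54],
  [33,35,36,32,40,42,40,38,38,44,54,54],
  [36,36,34,33,31,43,38,38,41,45,51,54,57],
  [29,35,37,34,39,42,38,45,52,54],
  [35,30,32,29,41,42,39,39,46,53,54,57],
  [36,34,32,31,29,43,39,39,49],
  [35,35,40,39,40,39,48,52,55],
  [34,29,34,33,39,41,46,54,54,57],
  [29,35,29,32,41,39,43,43,48,52],
  [33,29,37,29,42,39,41,39,52,54,54,57],
  [37,33,33,39,43,43,49,52,54,54],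
  [30,32,36,32,29,43,40,38,38,45,55],
  [34,36,36,35,32,42,40,43,40,38,48,52,54,57],
  [32,34,32,42,38,38,41,39,48,53,56],
  [34,36,34,36,41,43,50,54,57],
  [29,29,29,29,42,38,42,42,44,53,54,54,57],
  [32,32,32,31,40,40,40,39,48,50,54,54],
  [36,34,36,34,40,39,43,43,49,51,57],
  [37,34,30,32,29,43,39,39,52,56],
  [32,34,34,31,29,42,38,38,41,39,46,51,55,57]]
noncomputable def pU : List (List ℕ) := [[6,7,33],
  [8,48]]
noncomputable abbrev bs := mcB
noncomputable def aK : List ℕ := [29]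
noncomputable def nK : List (List ℕ × ℕ) := [([],0),
  ([],29),
  ([34,36,36,32,43,40,42,38,48,53,54],29),
  ([29,37,37,33,43,49,50,54,57],29),
  ([34,33,36,29,40,38,40,42,50,50,54,54,57],29),
  ([36,31,29,29,29,41,38,42,39,44,52,55],29),
  ([34,37,33,36,41,42,41,41,44,50,50,54,54],29),
  ([37,32,32,29,29,42,42,46,57],29),
  ([32,31,30,43,39,43,40,38,45,50,54,57],29),
  ([37,35,36,35,30,40,38,40,40,38,44,50,54,57],29),
  ([34,36,29,37,41,38,44,56],29)]
noncomputable def rT : List (List ℕ × ℕ) := [([0,1,0,1,0,1,0,1,0,1,0,1,0,1,0,1],9168),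
  ([0,0,1,0,0,1,0,0,1,0,0,1,0,0,1,0,0,1,0,0,1,0,0,1,0,0,1,0,0,1,0,0,1,0,0,1],4560),
  ([0,0,0,0,0,1,0,0,0,0,0,1,0,0,0,0,0,1,0,0,0,0,0,1,0,0,0,0,0,1,0,0,0,0,0,1,0,0,0,0,0,1,0,0,0,0,0,1],3920),
  ([0,0,0,0,1,0,0,0,0,1,0,0,0,0,1,0,0,0,0,1,0,0,0,0,1,0,0,0,0,1,0,0,0,0,1,0,0,0,0,1,0,0,0,0,1,0,0,0,0,1,0,0,0,0,1,0,0,0,0,1,0,0,0,0,1,0,0,0,0,1,0,0,0,0,1,0,0,0,0,1,0,0,0,0,1,0,0,0,0,1,0,0,0,0,1,0,0,0,0,1],10528),
  ([0,0,1,0,1,0,0,0,0,1,0,0,1,0,0,0,0,0,0,1,0,1,0,0,0,0,1,0,0,1,0,0,0,0,0,0,1,0,1,0,0,0,0,1,0,0,1,0,0,0,0],13296)]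
noncomputable def uu : List (List ℕ) := [[],
  [29,29],
  [29,29,29,29],
  [29,37,33,34,29,39,40,38,46,53,54,54,57],
  [31,30,34,43,38,41,38,45,50,50],
  [31,35,32,39,40,38,46,53,54,54,57],
  [32,29,32,30,43,38,41,38,45,50,50],
  [36,32,32,34,43,38,41,38,45,50,50],
  [36,32,34,43,38,41,38,45,50,50],
  [36,34,43,38,41,38,45,50,50],
  [37,32,31,30,39,41,39]]
noncomputable def wT : Tr ℕ := (.node (.node (.leaf wx0) (.leaf wx2)) (.leaf wx1))
noncomputable def en : Enum := ⟨inv, 8, 255, 3, fun i => force (Nat.shiftRight i 10) fun c => look 0xffffff (wT.get c) (Nat.mul 24 (Nat.land i 1023)), 31, [2224,2464,8944,17680], 65536⟩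
noncomputable def tst : (ℕ → ℕ) → Bool := outTest (appT tabs CG.HSx.t24 0xffff) bs aK rT [(29, 31), (29, 59)] uu
noncomputable def uS : List ℕ := [2,24]
noncomputable def uQ : List (List ℕ) := [[],
  [24,2,2,2,2],
  [2,2,24,24,24,2,2],
  [24,24,2,24,24,24],
  [2,2,24,2,2,2],
  [24,24,24]]
noncomputable def uR : List (List ℕ) := [[2],
  [24]]
noncomputable def uF : List (List ℕ) := [[],
  [0,0]]
noncomputable def eS : List ℕ := [29]
noncomputable def eQ : List (List ℕ) := [[],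
  [29],
  [29,29,29,29,29,29,29,29],
  [29,29,29],
  [29,29]]
noncomputable def eR : List (List ℕ) := [[29]]
noncomputable def eF : List (List ℕ) := [[],
  [0,0],
  [3,0,79,84,84,81,87,92,90,90,93],
  [3,1,79,84,84,81,87,92,90,90,93],
  [75,4,71,82,83,79,83,85,89,89,91,89],
  [75,0,77,83,81,79,83,79,85,89,91,90,93],
  [75,77,2,0,81,84,84,80,81,87,92,90,90,93],
  [75,77,3,0,83,79,83,82,85,90,92,89,93],
  [76,78,3,0,80,82,83,79,79,91,89,89,91,93],
  [0,77,73,0,83,79,79,83,86,89,89,91],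
  [1,77,73,0,83,79,79,83,86,89,89,91],
  [75,77,2,1,81,84,84,80,81,87,92,90,90,93],
  [75,77,3,1,83,79,83,82,85,90,92,89,93],
  [76,78,3,1,80,82,83,79,79,91,89,89,91,93],
  [78,71,75,3,80,82,83,79,79,87,89,89,93],
  [75,3,76,3,83,80,84,81,87],
  [72,77,77,72,79,83,81,84,81,85,85,89,91,90,93],
  [2,78,78,72,81,79,83,79,85,92,90,93],
  [2,78,0,73,81,79,83,79,85,92,90,93],
  [0,71,78,74,84,81,83,79,81,88,85,89,93],
  [2,71,78,74,83,80,84,81,88,85,90,92,89,89],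
  [78,0,77,71,0,82,84,84,82,85,85,91,89,91,93]]
noncomputable def foS : List ℕ := [2,3,24,25]
noncomputable def foU : List (List ℕ) := [[],
  [1],
  [0],
  [4],
  [0,0],
  [4,1],
  [4,0],
  [4,0,0],
  [4,3,4],
  [4,3,4,1],
  [4,3,4,3,4]]
noncomputable def foX : List ℕ := [0,16,32,48,64,80,96,144,272,432,1584]
noncomputable def foF (x : ℕ) : ℕ := look 0xffff foT x
noncomputable def fxS : List ℕ := [2,24]
noncomputable def fxU : List (List ℕ) := [[],
  [0],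
  [0,0],
  [1]]
noncomputable def fxX : List ℕ := [0,32,64,16]
noncomputable def w11 : List ℕ := [0,2,4,3,3,3,4]
noncomputable def wt : List ℕ := [4,1,3,3,1,3,0,4,2,0,2,2,0,4]
abbrev la : ℕ := 29
abbrev lb : ℕ := 31
abbrev lc : ℕ := 59
abbrev yx : ℕ := 24

end Cfsg.Agent.SpO.HN
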